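import Mathlib.CategoryTheory.Sites.Abelian
import Mathlib.CategoryTheory.Sites.Sheafification
import Mathlib.CategoryTheory.Sites.LocallyBijective
import Mathlib.Algebra.Homology.QuasiIso
import Mathlib.Algebra.Category.Grp.Abelian
import Mathlib.Algebra.Category.Grp.Limits
import Mathlib.Algebra.Category.Grp.Colimits
import Mathlib.CategoryTheory.Limits.FunctorCategory.EpiMono
import Mathlib.Algebra.Category.Grp.EpiMono
import Groth.Prelude.Def_CohCx

/-!
# Homology sheaves are detected on a covering class of objects
-/

set_option autoImplicit false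

universe v v' w w' u

open CategoryTheory CategoryTheory.Limits Opposite

namespace Groth.Agent.LimCx

/-- An exact functor carries the map on homology to the map on homology. -/
theorem isIso_homologyMap_map_iff {A : Type u} [Category.{v} A] [Abelian A] {B : Type w} [Category.{v'} B]
    [Abelian B] (F : A ⥤ B) [F.Additive] [PreservesFiniteLimits F] [PreservesFiniteColimits F]
    {K L : CochainComplex A ℤ} (φ : K ⟶ L) (i : ℤ) :
    IsIso (HomologicalComplex.homologyMap ((F.mapHomologicalComplex _).map φ) i) ↔
      IsIso (F.map (HomologicalComplex.homologyMap φ i)) := by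
  have := Functor.preservesHomologyOfExact F
  refine (MorphismProperty.isomorphisms B).arrow_mk_iso_iff
    (Arrow.isoMk ((K.sc i).mapHomologyIso F) ((L.sc i).mapHomologyIso F) ?_)
  exact (ShortComplex.mapHomologyIso_hom_naturality
    ((HomologicalComplex.shortComplexFunctor A (ComplexShape.up ℤ) i).map φ) F).symm

variable {C : Type u} [SmallCategory C] {J : GrothendieckTopology C}

/-- A map of complexes of sheaves inducing bijections on homology of sections over a covering class of
objects induces an isomorphism of homology sheaves. -/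
theorem isIso_homologyMap_of_sections {K L : CochainComplex (Sheaf J AddCommGrpCat.{u}) ℤ} (f : K ⟶ L) (m : ℤ)
    (B : Set C)
    (hB : ∀ U : C, ∃ (ι : Type u) (Y : ι → C) (f : ∀ i, Y i ⟶ U), Sieve.ofArrows Y f ∈ J U ∧ ∀ i, Y i ∈ B)
    (h : ∀ U ∈ B, IsIso (HomologicalComplex.homologyMap ((CohCx.sectCx J U).map f) m)) :
    IsIso (HomologicalComplex.homologyMap f m) := by
  let i := sheafToPresheaf J AddCommGrpCat.{u}
  let a := presheafToSheaf J AddCommGrpCat.{u}
  have : i.Additive := { }
  have : a.Additive := inferInstance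
  let φ := (i.mapHomologicalComplex (ComplexShape.up ℤ)).map f
  let g := HomologicalComplex.homologyMap φ m
  have hg : ∀ U ∈ B, Function.Bijective (g.app (op U)) := by
    intro U hU
    let E := (evaluation Cᵒᵖ AddCommGrpCat.{u}).obj (op U)
    have h1 : IsIso (HomologicalComplex.homologyMap ((E.mapHomologicalComplex _).map φ) m) := h U hU
    have h2 : IsIso (E.map g) := (isIso_homologyMap_map_iff E φ m).1 h1
    exact (ConcreteCategory.isIso_iff_bijective (g.app (op U))).1 h2
  have : Presheaf.IsLocallyInjective J g := ⟨fun {X} x y e => by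
    obtain ⟨ι, Yf, k, hk, hYB⟩ := hB X.unop
    refine J.superset_covering ?_ hk
    refine (Sieve.generate_le_iff _ _).2 ?_
    rintro _ _ ⟨j⟩
    refine (hg (Yf j) (hYB j)).1 ?_
    exact (NatTrans.naturality_apply g (k j).op x).trans
      ((congrArg _ e).trans (NatTrans.naturality_apply g (k j).op y).symm)⟩
  have : Presheaf.IsLocallySurjective J g := ⟨fun {U} s => by
    obtain ⟨ι, Yf, k, hk, hYB⟩ := hB U
    refine J.superset_covering ?_ hk
    refine (Sieve.generate_le_iff _ _).2 ?_
    rintro _ _ ⟨j⟩
    obtain ⟨t, ht⟩ := (hg (Yf j) (hYB j)).2 (((i.mapHomologicalComplex (ComplexShape.up ℤ)).obj L).homology m |>.map (k j).op s)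
    exact ⟨t, ht⟩⟩
  have h3 : IsIso (a.map g) := (J.W_iff g).1 (J.W_of_isLocallyBijective g)
  have h4 : IsIso (HomologicalComplex.homologyMap ((a.mapHomologicalComplex _).map φ) m) :=
    (isIso_homologyMap_map_iff a φ m).2 h3
  let η := NatTrans.mapHomologicalComplex (sheafificationNatIso J AddCommGrpCat.{u}).hom (ComplexShape.up ℤ)
  have hη : ∀ M : CochainComplex (Sheaf J AddCommGrpCat.{u}) ℤ, IsIso (η.app M) := fun M =>
    (NatIso.mapHomologicalComplex (sheafificationNatIso J AddCommGrpCat.{u}) (ComplexShape.up ℤ)).app M |>.isIso_hom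
  have e : ((𝟭 _ : Sheaf J AddCommGrpCat.{u} ⥤ _).mapHomologicalComplex _).map f ≫ η.app L =
      η.app K ≫ ((i ⋙ a).mapHomologicalComplex _).map f := η.naturality f
  have h5 : f ≫ η.app L = η.app K ≫ (a.mapHomologicalComplex _).map φ := e
  have h6 := congrArg (fun k => HomologicalComplex.homologyMap k m) h5
  have h8 := (HomologicalComplex.homologyMap_comp f (η.app L) m).symm.trans
    (h6.trans (HomologicalComplex.homologyMap_comp (η.app K) _ m))
  have hi : ∀ M, IsIso (HomologicalComplex.homologyMap (η.app M) m) := fun M =>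
    have := hη M
    inferInstanceAs (IsIso ((HomologicalComplex.homologyFunctor _ _ m).map (η.app M)))
  have := hi L
  have h7 : IsIso (HomologicalComplex.homologyMap f m ≫ HomologicalComplex.homologyMap (η.app L) m) := by
    refine h8.symm ▸ ?_; exact IsIso.comp_isIso' (hi K) h4
  exact @IsIso.of_isIso_comp_right _ _ _ _ _ _ (HomologicalComplex.homologyMap (η.app L) m) (hi L) h7

end Groth.Agent.LimCx
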