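import Groth.Agent.SiteBase.LimCx.Ab
import Groth.Agent.SiteBase.LimCx.Sheaf
import Mathlib.Algebra.Homology.HomologicalComplexLimits
import Mathlib.CategoryTheory.Sites.Limits
import Mathlib.Algebra.Category.Grp.Limits

/-!
# Cohomology sheaves of a limit of a tower of complexes of sheaves
-/

set_option autoImplicit false

universe u

open CategoryTheory CategoryTheory.Limits Opposite

namespace Groth.Agent.LimCx

variable {C : Type u} [SmallCategory C] {J : GrothendieckTopology C}
  (F : ℕ → CochainComplex (Sheaf J AddCommGrpCat.{u}) ℤ) (t : ∀ n, F (n + 1) ⟶ F n)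

lemma map_homOfLE_eq_transition (n₀ k : ℕ) :
    (CohCx.opSequence F t).map (homOfLE (Nat.le_add_right n₀ k)).op = CohCx.transition F t n₀ k := by
  induction k with
  | zero => exact (CohCx.opSequence F t).map_id _
  | succ k ih =>
    show _ = t (n₀ + k) ≫ CohCx.transition F t n₀ k
    refine Eq.trans ?_ (congrArg₂ (fun a b => a ≫ b) (Functor.ofOpSequence_map_homOfLE_succ t (n₀ + k)) ih)
    exact (CohCx.opSequence F t).map_comp (homOfLE (Nat.le_add_right (n₀ + k) 1)).op
      (homOfLE (Nat.le_add_right n₀ k)).op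

/-- The cohomology sheaf of the limit in a stationary situation. -/
theorem isIso_homologyMap_limit_π (m : ℤ) (B : Set C)
    (hB : ∀ U : C, ∃ (ι : Type u) (Y : ι → C) (f : ∀ i, Y i ⟶ U), Sieve.ofArrows Y f ∈ J U ∧ ∀ i, Y i ∈ B)
    (n₀ : ℕ)
    (ha : ∀ U ∈ B, ∀ j : ℤ, (j = m - 2 ∨ j = m - 1) →
      CohCx.LimOneIsZero (fun n => ((F n).X j).obj.obj (op U)) (fun n => (((t n).f j).hom.app (op U)).hom))
    (hb : ∀ U ∈ B, CohCx.LimOneIsZero
      (fun n => ((CohCx.sectCx J U).obj (F n)).homology (m - 1))
      (fun n => (HomologicalComplex.homologyMap ((CohCx.sectCx J U).map (t n)) (m - 1)).hom))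
    (hc : ∀ U ∈ B, ∀ k : ℕ, IsIso (HomologicalComplex.homologyMap
      ((CohCx.sectCx J U).map (CohCx.transition F t n₀ k)) m)) :
    IsIso (HomologicalComplex.homologyMap (limit.π (CohCx.opSequence F t) (op n₀)) m) := by
  refine isIso_homologyMap_of_sections _ m B hB fun U hU => ?_
  let S := CohCx.sectCx J U
  let T := CohCx.opSequence F t
  refine isIso_homologyMap_π (K := T ⋙ S) (S.mapCone (limit.cone T)) (fun i =>
    isLimitOfPreserves (sheafToPresheaf J AddCommGrpCat.{u} ⋙ (evaluation Cᵒᵖ AddCommGrpCat.{u}).obj (op U))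
      (isLimitOfPreserves (HomologicalComplex.eval (Sheaf J AddCommGrpCat.{u}) (ComplexShape.up ℤ) i)
        (limit.isLimit T))) m n₀ ?_ ?_ ?_
  · intro j hj
    have e : (fun n => ((trC (T ⋙ S) (Nat.le_add_right n 1)).f j).hom) =
        fun n => (((t n).f j).hom.app (op U)).hom := funext fun n => by
      show ((S.map (T.map (homOfLE (Nat.le_add_right n 1)).op)).f j).hom = _
      rw [Functor.ofOpSequence_map_homOfLE_succ]
      rfl
    rw [e]
    exact ha U hU j hj
  · have e : (fun n => (HomologicalComplex.homologyMap (trC (T ⋙ S) (Nat.le_add_right n 1)) (m - 1)).hom) =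
        fun n => (HomologicalComplex.homologyMap (S.map (t n)) (m - 1)).hom := funext fun n => by
      show (HomologicalComplex.homologyMap (S.map (T.map (homOfLE (Nat.le_add_right n 1)).op)) (m - 1)).hom = _
      rw [Functor.ofOpSequence_map_homOfLE_succ]
      rfl
    rw [e]
    exact hb U hU
  · intro l hl
    obtain ⟨k, rfl⟩ := Nat.exists_eq_add_of_le hl
    show Function.Bijective (HomologicalComplex.homologyMap (S.map (T.map (homOfLE (Nat.le_add_right n₀ k)).op)) m)
    rw [map_homOfLE_eq_transition]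
    exact (ConcreteCategory.isIso_iff_bijective _).1 (hc U hU k)

end Groth.Agent.LimCx
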