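import Groth.Agent.TowerLib.LimHomology
import Groth.Prelude.Def_CohCx

/-!
# Homology of the limit of a tower of complexes of abelian groups, stabilised case
-/

set_option autoImplicit false

universe u

open CategoryTheory CategoryTheory.Limits Opposite
open Groth.Agent.TowerLib

namespace Groth.Agent.LimCx

section Rep

variable {C D : HomologicalComplex AddCommGrpCat.{u} (ComplexShape.up ℤ)} {n : ℤ}

/-- The cochain `x` represents the class `h`. -/
def Rep (C : HomologicalComplex AddCommGrpCat.{u} (ComplexShape.up ℤ)) (n : ℤ) (x : C.X n) (h : C.homology n) : Prop :=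
  ∃ w : C.cycles n, C.iCycles n w = x ∧ C.homologyπ n w = h

lemma exists_rep (h : C.homology n) : ∃ x, Rep C n x h :=
  let ⟨w, hw⟩ := exists_cycle_rep C n h
  ⟨_, w, rfl, hw⟩

lemma Rep.d_eq_zero {x : C.X n} {h : C.homology n} (hx : Rep C n x h) (j : ℤ) : C.d n j x = 0 := by
  obtain ⟨w, rfl, -⟩ := hx
  exact ConcreteCategory.congr_hom (C.iCycles_d n j) w

lemma exists_class (x : C.X n) (j : ℤ) (hj : n + 1 = j) (hx : C.d n j x = 0) : ∃ h, Rep C n x h :=
  let ⟨w, hw⟩ := exists_cycle C n x j hj hx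
  ⟨_, w, hw, rfl⟩

lemma Rep.unique {x : C.X n} {h h' : C.homology n} (hx : Rep C n x h) (hx' : Rep C n x h') : h = h' := by
  obtain ⟨w, rfl, rfl⟩ := hx
  obtain ⟨w', e, rfl⟩ := hx'
  rw [iCycles_injective C n e]

lemma Rep.map (φ : C ⟶ D) {x : C.X n} {h : C.homology n} (hx : Rep C n x h) :
    Rep D n (φ.f n x) (HomologicalComplex.homologyMap φ n h) := by
  obtain ⟨w, rfl, rfl⟩ := hx
  exact ⟨HomologicalComplex.cyclesMap φ n w,
    ConcreteCategory.congr_hom (HomologicalComplex.cyclesMap_i φ n) w,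
    (ConcreteCategory.congr_hom (HomologicalComplex.homologyπ_naturality φ n) w).symm⟩

lemma Rep.sub {x x' : C.X n} {h h' : C.homology n} (hx : Rep C n x h) (hx' : Rep C n x' h') :
    Rep C n (x - x') (h - h') := by
  obtain ⟨w, rfl, rfl⟩ := hx
  obtain ⟨w', rfl, rfl⟩ := hx'
  exact ⟨w - w', map_sub _ _ _, map_sub _ _ _⟩

lemma rep_d (i : ℤ) (y : C.X i) : Rep C n (C.d i n y) 0 :=
  ⟨C.toCycles i n y, ConcreteCategory.congr_hom (C.toCycles_i i n) y, homologyπ_toCycles C n i y⟩

lemma Rep.exists_d {x : C.X n} (hx : Rep C n x 0) : ∃ y : C.X (n - 1), C.d (n - 1) n y = x := by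
  obtain ⟨w, rfl, hw⟩ := hx
  obtain ⟨y, hy⟩ := exists_boundary C n w hw
  exact ⟨y, (ConcreteCategory.congr_hom (C.toCycles_i (n - 1) n) y).symm.trans
    (congrArg (C.iCycles n) hy)⟩

end Rep

variable (K : ℕᵒᵖ ⥤ HomologicalComplex AddCommGrpCat.{u} (ComplexShape.up ℤ))

/-- The transition maps. -/
abbrev trC {k l : ℕ} (h : k ≤ l) : K.obj (op l) ⟶ K.obj (op k) := K.map (homOfLE h).op

lemma trC_f_comp {k l q : ℕ} (h : k ≤ l) (h' : l ≤ q) (i : ℤ) (x : (K.obj (op q)).X i) :
    (trC K h).f i ((trC K h').f i x) = (trC K (h.trans h')).f i x :=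
  (ConcreteCategory.congr_hom (congrArg (fun φ => φ.f i)
    (K.map_comp (homOfLE h').op (homOfLE h).op)) x).symm

lemma homologyMap_trC_comp {k l q : ℕ} (h : k ≤ l) (h' : l ≤ q) (i : ℤ) (x : (K.obj (op q)).homology i) :
    HomologicalComplex.homologyMap (trC K h) i (HomologicalComplex.homologyMap (trC K h') i x) =
      HomologicalComplex.homologyMap (trC K (h.trans h')) i x :=
  (ConcreteCategory.congr_hom (((congrArg (fun φ => HomologicalComplex.homologyMap φ i)
    (K.map_comp (homOfLE h').op (homOfLE h).op))).trans (HomologicalComplex.homologyMap_comp _ _ i)) x).symm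

variable {K}

/-- If the terms in degrees `m - 2`, `m - 1` and the homology in degree `m - 1` have no `lim¹` and the
homology in degree `m` is stationary from `n₀` on, the limit has the same homology in degree `m`. -/
theorem isIso_homologyMap_π (c : Cone K)
    (hc : ∀ i, IsLimit ((HomologicalComplex.eval AddCommGrpCat.{u} (ComplexShape.up ℤ) i).mapCone c))
    (m : ℤ) (n₀ : ℕ)
    (ha : ∀ j : ℤ, (j = m - 2 ∨ j = m - 1) →
      CohCx.LimOneIsZero (fun n => (K.obj (op n)).X j) (fun n => ((trC K (Nat.le_add_right n 1)).f j).hom))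
    (hb : CohCx.LimOneIsZero (fun n => (K.obj (op n)).homology (m - 1))
      (fun n => (HomologicalComplex.homologyMap (trC K (Nat.le_add_right n 1)) (m - 1)).hom))
    (hH : ∀ (l : ℕ) (h : n₀ ≤ l), Function.Bijective (HomologicalComplex.homologyMap (trC K h) m)) :
    IsIso (HomologicalComplex.homologyMap (c.π.app (op n₀)) m) := by
  have hw : ∀ {k l : ℕ} (h : k ≤ l), c.π.app (op l) ≫ trC K h = c.π.app (op k) :=
    fun h => c.w (homOfLE h).op
  have lext : ∀ (i : ℤ) (x y : c.pt.X i),
      (∀ n, (c.π.app (op n)).f i x = (c.π.app (op n)).f i y) → x = y := fun i x y h =>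
    Concrete.isLimit_ext _ (hc i) _ _ fun ⟨n⟩ => h n
  have lex : ∀ (i : ℤ) (y : ∀ n, (K.obj (op n)).X i),
      (∀ n, y n - (trC K (Nat.le_add_right n 1)).f i (y (n + 1)) = 0) →
      ∃ x : c.pt.X i, ∀ n, (c.π.app (op n)).f i x = y n := fun i y h =>
    exists_cone_element (deg K i) (hc i) y fun n => (sub_eq_zero.1 (h n)).symm
  rw [ConcreteCategory.isIso_iff_bijective]
  refine ⟨(injective_iff_map_eq_zero _).2 fun H hH0 => ?_, fun h₀ => ?_⟩
  · obtain ⟨Z, hZ⟩ := exists_rep H
    have h0 : ∀ n, HomologicalComplex.homologyMap (c.π.app (op n)) m H = 0 := by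
      intro n
      have e : ∀ {k l : ℕ} (h : k ≤ l), HomologicalComplex.homologyMap (trC K h) m
          (HomologicalComplex.homologyMap (c.π.app (op l)) m H) =
            HomologicalComplex.homologyMap (c.π.app (op k)) m H := fun h => by
        rw [← hw h, HomologicalComplex.homologyMap_comp]
        rfl
      have h1 : HomologicalComplex.homologyMap (c.π.app (op (n₀ + n))) m H = 0 :=
        (hH _ (Nat.le_add_right n₀ n)).1 ((e _).trans (hH0.trans (map_zero _).symm))
      refine (e (Nat.le_add_left n n₀)).symm.trans ?_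
      rw [h1]
      exact map_zero _
    choose y hy using fun n => Rep.exists_d (x := (c.π.app (op n)).f m Z) (by
      have := hZ.map (c.π.app (op n))
      rwa [h0 n] at this)
    have hcd : ∀ n, (K.obj (op n)).d (m - 1) m (y n - (trC K (Nat.le_add_right n 1)).f (m - 1) (y (n + 1))) = 0 := by
      intro n
      rw [map_sub, hy n]
      refine sub_eq_zero.2 (Eq.symm ?_)
      refine (ConcreteCategory.congr_hom ((trC K (Nat.le_add_right n 1)).comm (m - 1) m) (y (n + 1))).trans ?_
      refine (congrArg ((trC K (Nat.le_add_right n 1)).f m) (hy (n + 1))).trans ?_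
      exact ConcreteCategory.congr_hom (congrArg (fun φ => φ.f m) (hw (Nat.le_add_right n 1))) Z
    choose g hg using fun n => exists_class _ m (by omega) (hcd n)
    obtain ⟨e, he⟩ := hb g
    choose x hx using fun n => exists_rep (e n)
    choose w hw' using fun n => Rep.exists_d
      (x := y n - (trC K (Nat.le_add_right n 1)).f (m - 1) (y (n + 1)) -
        (x n - (trC K (Nat.le_add_right n 1)).f (m - 1) (x (n + 1)))) (by
      have := (hg n).sub ((hx n).sub ((hx (n + 1)).map (trC K (Nat.le_add_right n 1))))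
      have e' : g n - (e n - HomologicalComplex.homologyMap (trC K (Nat.le_add_right n 1)) (m - 1) (e (n + 1))) = 0 :=
        sub_eq_zero.2 (congrFun he n).symm
      rwa [e'] at this)
    obtain ⟨v, hv⟩ := ha (m - 1 - 1) (Or.inl (by omega)) w
    obtain ⟨Y, hY⟩ := lex (m - 1) (fun n => y n - x n - (K.obj (op n)).d (m - 1 - 1) (m - 1) (v n)) fun n => by
      have h1 : (K.obj (op n)).d (m - 1 - 1) (m - 1) (v n) -
          (trC K (Nat.le_add_right n 1)).f (m - 1) ((K.obj (op (n + 1))).d (m - 1 - 1) (m - 1) (v (n + 1))) =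
          y n - (trC K (Nat.le_add_right n 1)).f (m - 1) (y (n + 1)) -
            (x n - (trC K (Nat.le_add_right n 1)).f (m - 1) (x (n + 1))) := by
        rw [← hw' n, ← congrFun hv n, map_sub]
        refine congrArg (fun t => (K.obj (op n)).d (m - 1 - 1) (m - 1) (v n) - t) ?_
        exact (ConcreteCategory.congr_hom ((trC K (Nat.le_add_right n 1)).comm (m - 1 - 1) (m - 1)) (v (n + 1))).symm
      rw [map_sub, map_sub]
      generalize (K.obj (op n)).d (m - 1 - 1) (m - 1) (v n) = a at h1 ⊢
      generalize (trC K (Nat.le_add_right n 1)).f (m - 1) ((K.obj (op (n + 1))).d (m - 1 - 1) (m - 1) (v (n + 1))) = b at h1 ⊢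
      rw [sub_eq_iff_eq_add] at h1
      rw [h1]
      abel
    refine hZ.unique ?_
    have : c.pt.d (m - 1) m Y = Z := lext m _ _ fun n => by
      refine (ConcreteCategory.congr_hom ((c.π.app (op n)).comm (m - 1) m) Y).symm.trans ?_
      refine (congrArg ((K.obj (op n)).d (m - 1) m) (hY n)).trans ?_
      rw [map_sub, map_sub, (hx n).d_eq_zero m, sub_zero, hy n]
      exact (congrArg (fun t => (c.π.app (op n)).f m Z - t)
        (ConcreteCategory.congr_hom ((K.obj (op n)).d_comp_d (m - 1 - 1) (m - 1) m) (v n))).trans (sub_zero _)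
    rw [← this]
    exact rep_d (m - 1) Y
  · choose g hg using fun l : {l : ℕ // n₀ ≤ l} => (hH l.1 l.2).2 h₀
    let G : ∀ n, (K.obj (op n)).homology m := fun n =>
      HomologicalComplex.homologyMap (trC K (Nat.le_add_left n n₀)) m (g ⟨n₀ + n, Nat.le_add_right n₀ n⟩)
    have hG : ∀ n, G n - HomologicalComplex.homologyMap (trC K (Nat.le_add_right n 1)) m (G (n + 1)) = 0 := by
      intro n
      have e : g ⟨n₀ + n, Nat.le_add_right n₀ n⟩ = HomologicalComplex.homologyMap
          (trC K (Nat.le_add_right (n₀ + n) 1)) m (g ⟨n₀ + (n + 1), Nat.le_add_right n₀ _⟩) := by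
        refine (hH _ (Nat.le_add_right n₀ n)).1 ?_
        refine (hg ⟨n₀ + n, Nat.le_add_right n₀ n⟩).trans ?_
        refine (hg ⟨n₀ + (n + 1), Nat.le_add_right n₀ _⟩).symm.trans ?_
        exact (homologyMap_trC_comp K (Nat.le_add_right n₀ n) (Nat.le_add_right (n₀ + n) 1) m _).symm
      refine sub_eq_zero.2 ?_
      dsimp only [G]
      rw [e, homologyMap_trC_comp, homologyMap_trC_comp]
    choose z hz using fun n => exists_rep (G n)
    choose w hw' using fun n => Rep.exists_d (x := z n - (trC K (Nat.le_add_right n 1)).f m (z (n + 1))) (by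
      have := (hz n).sub ((hz (n + 1)).map (trC K (Nat.le_add_right n 1)))
      rwa [hG n] at this)
    obtain ⟨v, hv⟩ := ha (m - 1) (Or.inr rfl) w
    have hz' : ∀ n, Rep (K.obj (op n)) m (z n - (K.obj (op n)).d (m - 1) m (v n)) (G n) := fun n => by
      simpa using (hz n).sub (rep_d (n := m) (m - 1) (v n))
    obtain ⟨Z, hZ⟩ := lex m (fun n => z n - (K.obj (op n)).d (m - 1) m (v n)) fun n => by
      have h1 : (K.obj (op n)).d (m - 1) m (v n) -
          (trC K (Nat.le_add_right n 1)).f m ((K.obj (op (n + 1))).d (m - 1) m (v (n + 1))) =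
          z n - (trC K (Nat.le_add_right n 1)).f m (z (n + 1)) := by
        rw [← hw' n, ← congrFun hv n, map_sub]
        refine congrArg (fun t => (K.obj (op n)).d (m - 1) m (v n) - t) ?_
        exact (ConcreteCategory.congr_hom ((trC K (Nat.le_add_right n 1)).comm (m - 1) m) (v (n + 1))).symm
      rw [map_sub]
      generalize (K.obj (op n)).d (m - 1) m (v n) = a at h1 ⊢
      generalize (trC K (Nat.le_add_right n 1)).f m ((K.obj (op (n + 1))).d (m - 1) m (v (n + 1))) = b at h1 ⊢
      rw [sub_eq_iff_eq_add] at h1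
      rw [h1]
      abel
    have hd : c.pt.d m (m + 1) Z = 0 := lext (m + 1) _ _ fun n => by
      rw [map_zero]
      refine (ConcreteCategory.congr_hom ((c.π.app (op n)).comm m (m + 1)) Z).symm.trans ?_
      exact (congrArg ((K.obj (op n)).d m (m + 1)) (hZ n)).trans ((hz' n).d_eq_zero _)
    obtain ⟨H, hH'⟩ := exists_class Z (m + 1) rfl hd
    refine ⟨H, ?_⟩
    have h1 := hH'.map (c.π.app (op n₀))
    rw [hZ n₀] at h1
    refine (h1.unique (hz' n₀)).trans ?_
    dsimp only [G]
    exact hg ⟨n₀ + n₀, Nat.le_add_right n₀ n₀⟩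

end Groth.Agent.LimCx
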